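import Mathlib

/-! Coherent subalgebras of an integral morphism: extension step. -/

set_option autoImplicit false
set_option backward.isDefEq.respectTransparency false
set_option backward.defeqAttrib.useBackward true
set_option backward.isDefEq.respectTransparency.types false

universe u
open CategoryTheory CategoryTheory.Limits AlgebraicGeometry TopologicalSpace Opposite

namespace Groth.Agent.FiniteFactor

variable {T Y : Scheme.{u}} (f : T ⟶ Y)

/-- Restriction between preimages. -/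
def res {U V : Y.Opens} (h : U ≤ V) : Γ(T, f ⁻¹ᵁ V) →+* Γ(T, f ⁻¹ᵁ U) :=
  (T.presheaf.map (homOfLE (f.preimage_mono h)).op).hom

theorem res_res {U V W : Y.Opens} (h : U ≤ V) (k : V ≤ W) (a : Γ(T, f ⁻¹ᵁ W)) :
    res f h (res f k a) = res f (h.trans k) a :=
  (congr($(T.presheaf.map_comp (homOfLE (f.preimage_mono k)).op (homOfLE (f.preimage_mono h)).op) a)).symm

theorem res_self {U : Y.Opens} (h : U ≤ U) (a : Γ(T, f ⁻¹ᵁ U)) : res f h a = a := by
  simp [res]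

theorem res_app {U V : Y.Opens} (h : U ≤ V) (r : Γ(Y, V)) :
    res f h (f.app V r) = f.app U (Y.presheaf.map (homOfLE h).op r) :=
  (congr($(f.naturality (homOfLE h).op) r)).symm

/-- The subring generated by functions on the base and a set. -/
def gen (U : Y.Opens) (t : Set Γ(T, f ⁻¹ᵁ U)) : Subring Γ(T, f ⁻¹ᵁ U) :=
  Subring.closure (Set.range (f.app U) ∪ t)

theorem app_mem_gen {U : Y.Opens} (t : Set Γ(T, f ⁻¹ᵁ U)) (r : Γ(Y, U)) : f.app U r ∈ gen f U t :=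
  Subring.subset_closure (Or.inl ⟨r, rfl⟩)

theorem subset_gen {U : Y.Opens} (t : Set Γ(T, f ⁻¹ᵁ U)) : t ⊆ gen f U t :=
  fun _ h => Subring.subset_closure (Or.inr h)

theorem res_mem_gen {U V : Y.Opens} (h : U ≤ V) {t : Set Γ(T, f ⁻¹ᵁ V)} {a : Γ(T, f ⁻¹ᵁ V)}
    (ha : a ∈ gen f V t) : res f h a ∈ gen f U (res f h '' t) := by
  induction ha using Subring.closure_induction with
  | mem x hx =>
    rcases hx with ⟨r, rfl⟩ | hx
    · rw [res_app]; exact app_mem_gen f _ _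
    · exact subset_gen f _ ⟨x, hx, rfl⟩
  | zero => simp
  | one => simp
  | add x y _ _ hx hy => rw [map_add]; exact add_mem hx hy
  | neg x _ hx => rw [map_neg]; exact neg_mem hx
  | mul x y _ _ hx hy => rw [map_mul]; exact mul_mem hx hy

variable [IsAffineHom f]

theorem exists_pow_res {U : Y.Opens} (hU : IsAffineOpen U) (r : Γ(Y, U)) (z : Γ(T, f ⁻¹ᵁ Y.basicOpen r)) :
    ∃ (k : ℕ) (a : Γ(T, f ⁻¹ᵁ U)), res f (Y.basicOpen_le r) a = res f (Y.basicOpen_le r) (f.app U r) ^ k * z := by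
  let i := homOfLE (f.preimage_mono (Y.basicOpen_le r))
  letI := (T.presheaf.map i.op).hom.toAlgebra
  haveI := (hU.preimage f).isLocalization_of_eq_basicOpen (f.app U r) i (f.preimage_basicOpen r)
  obtain ⟨k, a, e⟩ := IsLocalization.Away.surj (f.app U r) z
  exact ⟨k, a, by rw [mul_comm]; exact e.symm⟩

theorem exists_pow_eq_zero {U : Y.Opens} (hU : IsAffineOpen U) (r : Γ(Y, U)) {a : Γ(T, f ⁻¹ᵁ U)}
    (h : res f (Y.basicOpen_le r) a = 0) : ∃ m : ℕ, f.app U r ^ m * a = 0 := by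
  let i := homOfLE (f.preimage_mono (Y.basicOpen_le r))
  letI := (T.presheaf.map i.op).hom.toAlgebra
  haveI := (hU.preimage f).isLocalization_of_eq_basicOpen (f.app U r) i (f.preimage_basicOpen r)
  obtain ⟨m, e⟩ := IsLocalization.Away.exists_of_eq (f.app U r)
    (show algebraMap Γ(T, f ⁻¹ᵁ U) Γ(T, f ⁻¹ᵁ Y.basicOpen r) a = algebraMap _ _ 0 by rw [map_zero]; exact h)
  exact ⟨m, by rw [e, mul_zero]⟩

omit [IsAffineHom f] in
theorem gen_surj {U : Y.Opens} (hU : IsAffineOpen U) (r : Γ(Y, U)) (t : Set Γ(T, f ⁻¹ᵁ U))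
    {z : Γ(T, f ⁻¹ᵁ Y.basicOpen r)} (hz : z ∈ gen f (Y.basicOpen r) (res f (Y.basicOpen_le r) '' t)) :
    ∃ (k : ℕ), ∃ a ∈ gen f U t, res f (Y.basicOpen_le r) a = res f (Y.basicOpen_le r) (f.app U r) ^ k * z := by
  let ρ := res f (Y.basicOpen_le r)
  have hr : f.app U r ∈ gen f U t := app_mem_gen f t r
  induction hz using Subring.closure_induction with
  | mem x hx =>
    rcases hx with ⟨(b : Γ(Y, Y.basicOpen r)), rfl⟩ | ⟨y, hy, rfl⟩
    · haveI := hU.isLocalization_basicOpen r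
      obtain ⟨k, a, e⟩ := IsLocalization.Away.surj r b
      refine ⟨k, f.app U a, app_mem_gen f t a, ?_⟩
      rw [res_app, res_app, ← map_pow, ← map_mul]
      refine congrArg _ (e.symm.trans ?_)
      exact mul_comm _ _
    · exact ⟨0, y, subset_gen f t hy, by rw [pow_zero, one_mul]⟩
  | zero => exact ⟨0, 0, zero_mem _, by simp⟩
  | one => exact ⟨0, 1, one_mem _, by simp⟩
  | neg x _ hx =>
    obtain ⟨k, a, ha, e⟩ := hx
    exact ⟨k, -a, neg_mem ha, by rw [map_neg, e, mul_neg]⟩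
  | add x y _ _ hx hy =>
    obtain ⟨k, a, ha, e⟩ := hx
    obtain ⟨l, b, hb, e'⟩ := hy
    exact ⟨k + l, a * f.app U r ^ l + b * f.app U r ^ k, add_mem (mul_mem ha (pow_mem hr _)) (mul_mem hb (pow_mem hr _)),
      by simp only [map_add, map_mul, map_pow, e, e', pow_add]; ring⟩
  | mul x y _ _ hx hy =>
    obtain ⟨k, a, ha, e⟩ := hx
    obtain ⟨l, b, hb, e'⟩ := hy
    exact ⟨k + l, a * b, mul_mem ha hb, by rw [map_mul, e, e', pow_add]; ring⟩

/-- Membership in a generated subring is local. -/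
theorem mem_gen_of_local {U : Y.Opens} (hU : IsAffineOpen U) (t : Set Γ(T, f ⁻¹ᵁ U)) (a : Γ(T, f ⁻¹ᵁ U))
    (h : ∀ y ∈ U, ∃ r : Γ(Y, U), y ∈ Y.basicOpen r ∧
      res f (Y.basicOpen_le r) a ∈ gen f (Y.basicOpen r) (res f (Y.basicOpen_le r) '' t)) : a ∈ gen f U t := by
  let J : Ideal Γ(Y, U) :=
    { carrier := {r | f.app U r * a ∈ gen f U t}
      zero_mem' := by simp
      add_mem' := fun {x y} hx hy => by
        simp only [Set.mem_ofPred_eq, map_add, add_mul] at hx hy ⊢; exact add_mem hx hy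
      smul_mem' := fun c x hx => by
        simp only [Set.mem_ofPred_eq, smul_eq_mul, map_mul, mul_assoc] at hx ⊢
        exact mul_mem (app_mem_gen f t c) hx }
  suffices J = ⊤ by
    have h1 : (1 : Γ(Y, U)) ∈ J := by rw [this]; trivial
    simpa [J] using h1
  rw [← Ideal.radical_eq_top]
  by_contra hJ
  obtain ⟨p, hp, hJp⟩ := Ideal.exists_le_maximal _ hJ
  let q : PrimeSpectrum Γ(Y, U) := ⟨p, hp.isPrime⟩
  have hy : hU.fromSpec q ∈ U := by rw [← SetLike.mem_coe, ← hU.range_fromSpec]; exact ⟨q, rfl⟩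
  obtain ⟨r, hyr, hr⟩ := h _ hy
  have hrp : r ∉ p := by
    have : q ∈ hU.fromSpec ⁻¹ᵁ Y.basicOpen r := hyr
    rw [hU.fromSpec_preimage_basicOpen] at this
    exact this
  obtain ⟨k, b, hb, e⟩ := gen_surj f hU r t hr
  obtain ⟨m, hm⟩ := exists_pow_eq_zero f hU r (a := b - f.app U r ^ k * a) (by rw [map_sub, e, map_mul, map_pow, sub_self])
  refine hrp (hJp ⟨m + k, ?_⟩)
  change f.app U (r ^ (m + k)) * a ∈ gen f U t
  rw [map_pow, pow_add, mul_assoc, ← sub_eq_zero.mp (show f.app U r ^ m * b - f.app U r ^ m * (f.app U r ^ k * a) = 0 by rw [← mul_sub]; exact hm)]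
  exact mul_mem (pow_mem (app_mem_gen f t r) m) hb

/-- A quasi-coherent family of subrings which is finitely generated near the points of `W`. -/
structure Data (W : Y.Opens) where
  sub : ∀ U : Y.Opens, Subring Γ(T, f ⁻¹ᵁ U)
  base : ∀ U r, f.app U r ∈ sub U
  res_mem : ∀ {U V : Y.Opens} (h : U ≤ V) {a}, a ∈ sub V → res f h a ∈ sub U
  locality : ∀ (U : Y.Opens) (a : Γ(T, f ⁻¹ᵁ U)),
    (∀ y ∈ U, y ∈ W → ∃ (O : Y.Opens) (h : O ≤ U), y ∈ O ∧ res f h a ∈ sub O) → a ∈ sub U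
  fin : ∀ y ∈ W, ∃ (V : Y.Opens) (_ : y ∈ V) (_ : IsAffineOpen V) (_ : V ≤ W) (t : Finset Γ(T, f ⁻¹ᵁ V)),
    (↑t : Set Γ(T, f ⁻¹ᵁ V)) ⊆ (sub V : Set Γ(T, f ⁻¹ᵁ V)) ∧ ∀ g : Γ(Y, V), sub (Y.basicOpen g) ≤ gen f _ (res f (Y.basicOpen_le g) '' ↑t)

/-- Everything. -/
def Data.init : Data f ⊥ where
  sub _ := ⊤
  base _ _ := trivial
  res_mem _ _ _ := trivial
  locality _ _ _ := trivial
  fin _ hy := hy.elim

variable {f}

omit [IsAffineHom f] in
theorem Data.gen_le {W : Y.Opens} (D : Data f W) {U V : Y.Opens} (h : U ≤ V) {t : Set Γ(T, f ⁻¹ᵁ V)}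
    (ht : t ⊆ D.sub V) : gen f U (res f h '' t) ≤ D.sub U := by
  refine Subring.closure_le.mpr ?_
  rintro _ (⟨r, rfl⟩ | ⟨a, ha, rfl⟩)
  · exact D.base U r
  · exact D.res_mem h (ht ha)

/-- Clearing denominators inside the family. -/
theorem Data.exists_pow_mem {W : Y.Opens} [IsNoetherian Y] (D : Data f W) {U : Y.Opens} (hU : IsAffineOpen U)
    (r : Γ(Y, U)) (a : Γ(T, f ⁻¹ᵁ U)) (ha : res f (Y.basicOpen_le r) a ∈ D.sub (Y.basicOpen r)) :
    ∃ m : ℕ, f.app U r ^ m * a ∈ D.sub U := by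
  have key : ∀ y : ↥(U ⊓ W), ∃ (O : Y.Opens) (h : O ≤ U) (m : ℕ), y.1 ∈ O ∧ res f h (f.app U r ^ m * a) ∈ D.sub O := by
    rintro ⟨y, hyU, hyW⟩
    obtain ⟨V, hyV, hV, -, t, ht, hgen⟩ := D.fin y hyW
    obtain ⟨g, hgU, hyg⟩ := hV.exists_basicOpen_le (V := U) ⟨y, hyU⟩ hyV
    let O := Y.basicOpen g
    have hO : IsAffineOpen O := hV.basicOpen g
    let r' := Y.presheaf.map (homOfLE hgU).op r
    have hr' : Y.basicOpen r' ≤ Y.basicOpen r := by simp [r', Scheme.basicOpen_res]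
    obtain ⟨g', hg'⟩ : ∃ g' : Γ(Y, V), Y.basicOpen g' = Y.basicOpen r' := by
      obtain ⟨g', hg'⟩ := hV.basicOpen_basicOpen_is_basicOpen g r'
      exact ⟨g', hg'⟩
    have h2 : res f (Y.basicOpen_le r') (res f hgU a) ∈ gen f (Y.basicOpen r')
        (res f (Y.basicOpen_le r') '' (res f (Y.basicOpen_le g) '' ↑t)) := by
      have h1 := D.res_mem hr' ha
      rw [res_res] at h1
      rw [res_res, Set.image_image]
      simp only [res_res]
      have h3 : ∀ (O' : Y.Opens) (e : Y.basicOpen g' = O') (hle : O' ≤ V) (z : Γ(T, f ⁻¹ᵁ O')),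
          z ∈ D.sub O' → z ∈ gen f O' (res f hle '' ↑t) := by
        rintro _ rfl hle z hz
        exact hgen g' hz
      exact h3 _ hg' _ _ h1
    obtain ⟨k, b, hb, e⟩ := gen_surj f hO r' _ h2
    obtain ⟨m, hm⟩ := exists_pow_eq_zero f hO r' (a := b - f.app O r' ^ k * res f hgU a)
      (by rw [map_sub, e, map_mul, map_pow, sub_self])
    refine ⟨O, hgU, m + k, hyg, ?_⟩
    rw [map_mul, map_pow, res_app, pow_add, mul_assoc,
      ← sub_eq_zero.mp (show f.app O r' ^ m * b - f.app O r' ^ m * (f.app O r' ^ k * res f hgU a) = 0 by rw [← mul_sub]; exact hm)]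
    exact mul_mem (pow_mem (D.base _ _) m) (D.gen_le _ ht hb)
  choose O hO m hy hm using key
  obtain ⟨s, hs⟩ := (NoetherianSpace.isCompact ((U ⊓ W : Y.Opens) : Set Y)).elim_finite_subcover
    (fun y => (O y : Set Y)) (fun y => (O y).isOpen) (fun y hy' => Set.mem_iUnion.mpr ⟨⟨y, hy'⟩, hy _⟩)
  refine ⟨s.sup m, D.locality _ _ fun y hyU hyW => ?_⟩
  obtain ⟨z, hz, hyz⟩ := Set.mem_iUnion₂.mp (hs (show y ∈ ((U ⊓ W : Y.Opens) : Set Y) from ⟨hyU, hyW⟩))
  obtain ⟨l, hl⟩ := Nat.exists_eq_add_of_le (Finset.le_sup (f := m) hz)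
  refine ⟨O z, hO z, hyz, ?_⟩
  rw [hl, add_comm, pow_add, mul_assoc, map_mul, map_pow, res_app]
  exact mul_mem (pow_mem (D.base _ _) l) (hm z)

theorem Data.exists_pow_lift {W : Y.Opens} [IsNoetherian Y] (D : Data f W) {U : Y.Opens} (hU : IsAffineOpen U)
    (r : Γ(Y, U)) {z : Γ(T, f ⁻¹ᵁ Y.basicOpen r)} (hz : z ∈ D.sub (Y.basicOpen r)) :
    ∃ k : ℕ, ∃ a ∈ D.sub U, res f (Y.basicOpen_le r) a = res f (Y.basicOpen_le r) (f.app U r) ^ k * z := by
  obtain ⟨k, a, e⟩ := exists_pow_res f hU r z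
  obtain ⟨m, hm⟩ := D.exists_pow_mem hU r a (by
    rw [e]; exact mul_mem (pow_mem (D.res_mem _ (D.base _ _)) k) hz)
  exact ⟨m + k, _, hm, by rw [map_mul, map_pow, e, pow_add, mul_assoc]⟩

/-- One extension step. -/
theorem Data.exists_extend {W : Y.Opens} [IsNoetherian Y] (D : Data f W) {V : Y.Opens} (hV : IsAffineOpen V)
    (t₀ : Finset Γ(T, f ⁻¹ᵁ V)) (ht₀ : (↑t₀ : Set Γ(T, f ⁻¹ᵁ V)) ⊆ D.sub V) :
    ∃ D' : Data f (W ⊔ V), (↑t₀ : Set Γ(T, f ⁻¹ᵁ V)) ⊆ D'.sub V ∧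
      ∀ U, U ≤ W → D.sub U ≤ D'.sub U := by
  classical
  -- generators near the points of `W ⊓ V`
  have key : ∀ y : ↥(V ⊓ W), ∃ (r : Γ(Y, V)) (s : Finset Γ(T, f ⁻¹ᵁ V)), y.1 ∈ Y.basicOpen r ∧ (↑s : Set Γ(T, f ⁻¹ᵁ V)) ⊆ D.sub V ∧
      ∀ g : Γ(Y, Y.basicOpen r), D.sub (Y.basicOpen g) ≤
        gen f _ (res f ((Y.basicOpen_le g).trans (Y.basicOpen_le r)) '' ↑s) := by
    rintro ⟨y, hyV, hyW⟩
    obtain ⟨V', hyV', hV', -, t, ht, hgen⟩ := D.fin y hyW
    obtain ⟨r, g₀, hrg, hyr⟩ := exists_basicOpen_le_affine_inter hV hV' y ⟨hyV, hyV'⟩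
    have hle : Y.basicOpen r ≤ V' := hrg.trans_le (Y.basicOpen_le g₀)
    have lift : ∀ z ∈ t, ∃ k : ℕ, ∃ a ∈ D.sub V,
        res f (Y.basicOpen_le r) a = res f (Y.basicOpen_le r) (f.app V r) ^ k * res f hle z :=
      fun z hz => D.exists_pow_lift hV r (D.res_mem hle (ht hz))
    choose k a ha e using lift
    refine ⟨r, t.attach.image fun z => a z.1 z.2, hyr, ?_, ?_⟩
    · intro x hx
      obtain ⟨z, -, rfl⟩ := Finset.mem_image.mp hx
      exact ha _ _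
    · intro g
      obtain ⟨g', hg'⟩ : ∃ g' : Γ(Y, V'), Y.basicOpen g' = Y.basicOpen g := by
        have : ∀ (O : Y.Opens) (_ : Y.basicOpen g₀ = O) (g : Γ(Y, O)), ∃ g' : Γ(Y, V'), Y.basicOpen g' = Y.basicOpen g := by
          rintro _ rfl g
          obtain ⟨g', hg'⟩ := hV'.basicOpen_basicOpen_is_basicOpen g₀ g
          exact ⟨g', hg'⟩
        exact this _ hrg.symm g
      have h3 : ∀ (O' : Y.Opens) (e : Y.basicOpen g' = O') (hle : O' ≤ V'),
          D.sub O' ≤ gen f O' (res f hle '' ↑t) := by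
        rintro _ rfl hle'
        exact hgen g'
      refine (h3 _ hg' ((Y.basicOpen_le g).trans hle)).trans (Subring.closure_le.mpr ?_)
      rintro _ (⟨q, rfl⟩ | ⟨z, hz, rfl⟩)
      · exact app_mem_gen f _ q
      · have hu : IsUnit (Y.presheaf.map (homOfLE ((Y.basicOpen_le g).trans (Y.basicOpen_le r))).op r) := by
          have := (RingedSpace.isUnit_res_basicOpen Y.toRingedSpace r).map (Y.presheaf.map (homOfLE (Y.basicOpen_le g)).op).hom
          convert this using 1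
          exact congr($(Y.presheaf.map_comp (homOfLE (Y.basicOpen_le r)).op (homOfLE (Y.basicOpen_le g)).op) r)
        have e' := congrArg (res f (Y.basicOpen_le g)) (e z hz)
        rw [map_mul, map_pow, res_res, res_res, res_res, res_app] at e'
        obtain ⟨v, hv⟩ := hu.exists_left_inv
        have : res f ((Y.basicOpen_le g).trans hle) z =
            f.app (Y.basicOpen g) v ^ (k z hz) * res f ((Y.basicOpen_le g).trans (Y.basicOpen_le r)) (a z hz) := by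
          rw [e', ← mul_assoc, ← mul_pow, ← map_mul, hv, map_one, one_pow, one_mul]
        rw [SetLike.mem_coe, this]
        exact mul_mem (pow_mem (app_mem_gen f _ v) _)
          (subset_gen f _ ⟨a z hz, Finset.mem_image.mpr ⟨⟨z, hz⟩, Finset.mem_attach _ _, rfl⟩, rfl⟩)
  choose r s hyr hs hgen using key
  obtain ⟨F, hF⟩ := (NoetherianSpace.isCompact ((V ⊓ W : Y.Opens) : Set Y)).elim_finite_subcover
    (fun y => (Y.basicOpen (r y) : Set Y)) (fun y => (Y.basicOpen (r y)).isOpen) (fun y hy => Set.mem_iUnion.mpr ⟨⟨y, hy⟩, hyr _⟩)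
  let t := t₀ ∪ F.biUnion s
  have ht : (↑t : Set Γ(T, f ⁻¹ᵁ V)) ⊆ D.sub V := by
    intro x hx
    rcases Finset.mem_union.mp hx with h | h
    · exact ht₀ h
    · obtain ⟨y, -, hy⟩ := Finset.mem_biUnion.mp h
      exact hs y hy
  -- near a point of `V ⊓ W` the old family is generated by `t`
  have hVW : ∀ y ∈ V, y ∈ W → ∃ (O : Y.Opens) (hO : O ≤ V), y ∈ O ∧ IsAffineOpen O ∧
      ∀ g : Γ(Y, O), D.sub (Y.basicOpen g) ≤ gen f _ (res f ((Y.basicOpen_le g).trans hO) '' ↑t) := by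
    intro y hyV hyW
    obtain ⟨z, hz, hyz⟩ := Set.mem_iUnion₂.mp (hF (show y ∈ ((V ⊓ W : Y.Opens) : Set Y) from ⟨hyV, hyW⟩))
    refine ⟨_, Y.basicOpen_le (r z), hyz, hV.basicOpen _, fun g => (hgen z g).trans ?_⟩
    exact Subring.closure_mono (Set.union_subset_union_right _ (Set.image_mono
      (fun x hx => Finset.mem_union_right _ (Finset.mem_biUnion.mpr ⟨z, hz, hx⟩))))
  let P : ∀ U : Y.Opens, Set Γ(T, f ⁻¹ᵁ U) := fun U =>
    {a | ∀ y ∈ U, y ∈ V → ∃ (g : Γ(Y, V)) (hg : Y.basicOpen g ≤ U),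
      y ∈ Y.basicOpen g ∧ res f hg a ∈ gen f _ (res f (Y.basicOpen_le g) '' ↑t)}
  have hsmall : ∀ {U : Y.Opens} {a : Γ(T, f ⁻¹ᵁ U)} {g g' : Γ(Y, V)} (hg : Y.basicOpen g ≤ U) (h' : Y.basicOpen g' ≤ Y.basicOpen g),
      res f hg a ∈ gen f _ (res f (Y.basicOpen_le g) '' ↑t) →
      res f (h'.trans hg) a ∈ gen f _ (res f (Y.basicOpen_le g') '' ↑t) := by
    intro U a g g' hg h' h
    have := res_mem_gen f h' h
    rw [res_res, Set.image_image] at this
    simpa only [res_res] using this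
  have htop : ∀ {U : Y.Opens} (a : Γ(T, f ⁻¹ᵁ U)) (g : Γ(Y, V)) (hg : Y.basicOpen g ≤ U),
      a ∈ P U → res f hg a ∈ gen f _ (res f (Y.basicOpen_le g) '' ↑t) := by
    intro U a g hg ha
    refine mem_gen_of_local f (hV.basicOpen g) _ _ fun y hy => ?_
    obtain ⟨g₁, hg₁, hy₁, h₁⟩ := ha y (hg hy) (Y.basicOpen_le g hy)
    obtain ⟨r', hr', hy'⟩ := (hV.basicOpen g).exists_basicOpen_le (V := Y.basicOpen g₁) ⟨y, hy₁⟩ hy
    obtain ⟨g₂, hg₂⟩ := hV.basicOpen_basicOpen_is_basicOpen g r'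
    refine ⟨r', hy', ?_⟩
    have h2 := res_mem_gen f hr' h₁
    rw [res_res, Set.image_image] at h2
    simp only [res_res] at h2
    rw [res_res, Set.image_image]
    simpa only [res_res] using h2
  let sub' : ∀ U : Y.Opens, Subring Γ(T, f ⁻¹ᵁ U) := fun U =>
    D.sub U ⊓
    { carrier := P U
      one_mem' := fun y hy hyV => by
        obtain ⟨g, hg, hyg⟩ := hV.exists_basicOpen_le (V := U) ⟨y, hy⟩ hyV
        exact ⟨g, hg, hyg, by rw [map_one]; exact one_mem _⟩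
      zero_mem' := fun y hy hyV => by
        obtain ⟨g, hg, hyg⟩ := hV.exists_basicOpen_le (V := U) ⟨y, hy⟩ hyV
        exact ⟨g, hg, hyg, by rw [map_zero]; exact zero_mem _⟩
      neg_mem' := fun {a} ha y hy hyV => by
        obtain ⟨g, hg, hyg, h⟩ := ha y hy hyV
        exact ⟨g, hg, hyg, by rw [map_neg]; exact neg_mem h⟩
      add_mem' := fun {a b} ha hb y hy hyV => by
        obtain ⟨g, hg, hyg, h⟩ := ha y hy hyV
        exact ⟨g, hg, hyg, by rw [map_add]; exact add_mem h (htop b g hg hb)⟩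
      mul_mem' := fun {a b} ha hb y hy hyV => by
        obtain ⟨g, hg, hyg, h⟩ := ha y hy hyV
        exact ⟨g, hg, hyg, by rw [map_mul]; exact mul_mem h (htop b g hg hb)⟩ }
  have htsub : (↑t : Set Γ(T, f ⁻¹ᵁ V)) ⊆ sub' V := fun x hx => ⟨ht hx, fun y hy _ => by
    obtain ⟨g, hg, hyg⟩ := hV.exists_basicOpen_le (V := V) ⟨y, hy⟩ hy
    exact ⟨g, hg, hyg, subset_gen f _ ⟨x, hx, rfl⟩⟩⟩
  refine ⟨{ sub := sub', base := ?_, res_mem := ?_, locality := ?_, fin := ?_ },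
    fun x hx => htsub (Finset.mem_union_left _ hx), fun U hUW x hx => ⟨hx, fun z hz hzV => ?_⟩⟩
  · intro U q
    refine ⟨D.base U q, fun y hy hyV => ?_⟩
    obtain ⟨g, hg, hyg⟩ := hV.exists_basicOpen_le (V := U) ⟨y, hy⟩ hyV
    exact ⟨g, hg, hyg, by rw [res_app]; exact app_mem_gen f _ _⟩
  · rintro U U' h a ⟨ha, ha'⟩
    refine ⟨D.res_mem h ha, fun y hy hyV => ?_⟩
    obtain ⟨g, hg, hyg⟩ := hV.exists_basicOpen_le (V := U) ⟨y, hy⟩ hyV
    exact ⟨g, hg, hyg, by rw [res_res]; exact htop a g _ ha'⟩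
  · intro U a h
    refine ⟨D.locality U a fun y hy hyW => ?_, fun y hy hyV => ?_⟩
    · obtain ⟨O, hO, hyO, hm⟩ := h y hy (Or.inl hyW)
      exact ⟨O, hO, hyO, hm.1⟩
    · obtain ⟨O, hO, hyO, hm⟩ := h y hy (Or.inr hyV)
      obtain ⟨g, hg, hyg⟩ := hV.exists_basicOpen_le (V := O) ⟨y, hyO⟩ hyV
      have h4 := htop _ g hg hm.2
      rw [res_res] at h4
      exact ⟨g, hg.trans hO, hyg, h4⟩
  · intro y hy
    by_cases hyV : y ∈ V
    · refine ⟨V, hyV, hV, le_sup_right, t, htsub, fun g a ha => ?_⟩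
      simpa [res_self] using htop a g le_rfl ha.2
    · have hyW : y ∈ W := hy.resolve_right hyV
      obtain ⟨V', hyV', hV', hV'W, t', ht', hgen'⟩ := D.fin y hyW
      refine ⟨V', hyV', hV', hV'W.trans le_sup_left, t', fun x hx => ⟨ht' hx, fun z hz hzV => ?_⟩, fun g => inf_le_left.trans (hgen' g)⟩
      have hzW : z ∈ W := hV'W hz
      obtain ⟨O, hOV, hzO, hOaff, hO⟩ := hVW z hzV hzW
      obtain ⟨r', hr', hz'⟩ := hOaff.exists_basicOpen_le (V := V' ⊓ O) ⟨z, hz, hzO⟩ hzO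
      obtain ⟨g₂, hg₂, hz₂⟩ := hV.exists_basicOpen_le (V := Y.basicOpen r') ⟨z, hz'⟩ hzV
      refine ⟨g₂, hg₂.trans (hr'.trans inf_le_left), hz₂, ?_⟩
      have h5 := res_mem_gen f hg₂ (hO r' (D.res_mem (hr'.trans inf_le_left) (ht' hx)))
      rw [res_res, Set.image_image] at h5
      simpa only [res_res] using h5
  · obtain ⟨O, hOV, hzO, hOaff, hO⟩ := hVW z hzV (hUW hz)
    obtain ⟨r', hr', hz'⟩ := hOaff.exists_basicOpen_le (V := U ⊓ O) ⟨z, hz, hzO⟩ hzO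
    obtain ⟨g₂, hg₂, hz₂⟩ := hV.exists_basicOpen_le (V := Y.basicOpen r') ⟨z, hz'⟩ hzV
    refine ⟨g₂, hg₂.trans (hr'.trans inf_le_left), hz₂, ?_⟩
    have h5 := res_mem_gen f hg₂ (hO r' (D.res_mem (hr'.trans inf_le_left) hx))
    rw [res_res, Set.image_image] at h5
    simpa only [res_res] using h5

end Groth.Agent.FiniteFactor
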