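import Groth.Agent.FiniteFactor.Basic

/-! The finite model attached to a coherent family of subalgebras. -/

set_option autoImplicit false
set_option backward.isDefEq.respectTransparency false
set_option backward.defeqAttrib.useBackward true
set_option backward.isDefEq.respectTransparency.types false

universe u
open CategoryTheory CategoryTheory.Limits AlgebraicGeometry TopologicalSpace Opposite

namespace Groth.Agent.FiniteFactor

variable {T Y : Scheme.{u}} {f : T ⟶ Y} (D : Data f ⊤)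

/-- The presheaf of subrings. -/
noncomputable def diagram : Y.AffineZariskiSiteᵒᵖ ⥤ CommRingCat.{u} where
  obj U := .of (D.sub U.unop.1)
  map {U V} i := CommRingCat.ofHom
    ((T.presheaf.map (homOfLE (f.preimage_mono (Scheme.AffineZariskiSite.toOpens_mono i.unop.le))).op).hom.restrict _ _
      fun x hx => D.res_mem (Scheme.AffineZariskiSite.toOpens_mono i.unop.le) hx)
  map_id U := by
    ext x
    show T.presheaf.map (homOfLE _).op x.1 = x.1
    simp
  map_comp {U V W} i j := by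
    ext x
    show T.presheaf.map (homOfLE _).op x.1 = T.presheaf.map (homOfLE _).op (T.presheaf.map (homOfLE _).op x.1)
    rw [← CommRingCat.comp_apply, ← T.presheaf.map_comp]
    rfl

/-- The structure map. -/
noncomputable def diagramMap :
    (Scheme.AffineZariskiSite.toOpensFunctor Y).op ⋙ Y.presheaf ⟶ diagram D where
  app U := CommRingCat.ofHom ((f.app U.unop.1).hom.codRestrict _ fun r => D.base U.unop.1 r)
  naturality {U V} i := by
    ext x
    refine Subtype.ext ?_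
    exact congr($(f.naturality (homOfLE (Scheme.AffineZariskiSite.toOpens_mono i.unop.le)).op) x)

theorem coequifibered [IsAffineHom f] [IsNoetherian Y] : (diagramMap D).Coequifibered := by
  refine Scheme.AffineZariskiSite.coequifibered_iff_forall_isLocalizationAway.mpr fun U r => ?_
  letI := ((diagram D).map (homOfLE (U.basicOpen_le r)).op).hom.toAlgebra
  have hle : Y.basicOpen r ≤ U.1 := Y.basicOpen_le r
  haveI := U.2.isLocalization_basicOpen r
  have hur : IsUnit (Y.presheaf.map (homOfLE hle).op r) :=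
    IsLocalization.Away.algebraMap_isUnit (S := Γ(Y, Y.basicOpen r)) r
  refine IsLocalization.Away.mk (S := (diagram D).obj (.op (U.basicOpen r))) _ ?_ ?_ ?_
  · show IsUnit (((diagram D).map (homOfLE (U.basicOpen_le r)).op) ((diagramMap D).app (.op U) r))
    rw [← CommRingCat.comp_apply, ← (diagramMap D).naturality, CommRingCat.comp_apply]
    exact hur.map _
  · rintro ⟨z, hz⟩
    obtain ⟨k, a, ha, e⟩ := D.exists_pow_lift U.2 r (z := z) hz
    exact ⟨k, ⟨a, ha⟩, Subtype.ext ((mul_comm _ _).trans e.symm)⟩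
  · rintro ⟨a, ha⟩ ⟨b, hb⟩ e
    have e' : res f hle a = res f hle b := congrArg Subtype.val e
    obtain ⟨m, hm⟩ := exists_pow_eq_zero f U.2 r (a := a - b) (by rw [map_sub, e', sub_self])
    exact ⟨m, Subtype.ext (sub_eq_zero.mp (show f.app U.1 r ^ m * a - f.app U.1 r ^ m * b = 0 by rw [← mul_sub]; exact hm))⟩

variable [IsAffineHom f] [IsNoetherian Y]

noncomputable def glueData := Scheme.AffineZariskiSite.relativeGluingData (coequifibered D)

instance : ((glueData D).functor ⋙ Scheme.forget).IsLocallyDirected :=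
  Scheme.Cover.RelativeGluingData.instIsLocallyDirectedI₀CompFunctorForgetOfIsThin ..

/-- The model. -/
noncomputable def model : Scheme.{u} := (glueData D).glued

noncomputable def modelMap : model D ⟶ Y := (glueData D).toBase

/-- The chart of the model over an affine open. -/
noncomputable def modelι (U : Y.affineOpens) : Spec (.of (D.sub U.1)) ⟶ model D :=
  (glueData D).cover.f U

instance (U : Y.affineOpens) : IsOpenImmersion (modelι D U) :=
  (glueData D).cover.map_prop _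

theorem modelι_map (U : Y.affineOpens) :
    modelι D U ≫ modelMap D = Spec.map ((diagramMap D).app (.op ⟨U.1, U.2⟩)) ≫ U.2.fromSpec :=
  colimit.ι_desc _ _

theorem modelMap_preimage (U : Y.affineOpens) : modelMap D ⁻¹ᵁ U.1 = (modelι D U).opensRange := by
  simpa using! (glueData D).toBase_preimage_eq_opensRange_ι U

theorem isFinite_modelMap [IsIntegralHom f] : IsFinite (modelMap D) := by
  choose V hyV hV hVW t ht hgen using fun y : Y => D.fin y trivial
  let U : Y → Y.affineOpens := fun y => ⟨V y, hV y⟩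
  have hU : ⨆ y, (U y).1 = ⊤ := eq_top_iff.mpr fun y _ => Opens.mem_iSup.mpr ⟨y, hyV y⟩
  rw [IsZariskiLocalAtTarget.iff_of_iSup_eq_top (P := @IsFinite) _ hU]
  intro y
  have hfin : ((diagramMap D).app (.op ⟨(U y).1, (U y).2⟩)).hom.Finite := by
    letI := (f.app (V y)).hom.toAlgebra
    haveI : IsNoetherianRing Γ(Y, V y) := IsLocallyNoetherian.component_noetherian (U y)
    let A : Subalgebra Γ(Y, V y) Γ(T, f ⁻¹ᵁ V y) := { D.sub (V y) with algebraMap_mem' := D.base (V y) }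
    have hA : A = Algebra.adjoin Γ(Y, V y) (↑(t y) : Set Γ(T, f ⁻¹ᵁ V y)) := by
      refine le_antisymm (fun a (ha : a ∈ D.sub (V y)) => ?_) (Algebra.adjoin_le (ht y))
      have h1 := hgen y (1 : Γ(Y, V y))
      have h2 : ∀ (O : Y.Opens) (_ : Y.basicOpen (1 : Γ(Y, V y)) = O) (hle : O ≤ V y),
          D.sub O ≤ gen f O (res f hle '' ↑(t y)) := by
        rintro _ rfl hle; exact h1
      have h3 := h2 (V y) (Y.basicOpen_of_isUnit isUnit_one) le_rfl ha
      simp only [res_self, Set.image_id'] at h3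
      rw [← Subalgebra.mem_toSubring, Algebra.adjoin_eq_ring_closure]
      exact h3
    have hint : ∀ x ∈ (↑(t y) : Set Γ(T, f ⁻¹ᵁ V y)), _root_.IsIntegral Γ(Y, V y) x :=
      fun x _ => IsIntegralHom.isIntegral_app f (V y) (hV y) x
    have : Module.Finite Γ(Y, V y) A := by
      rw [hA]
      exact Module.Finite.iff_fg.2 (fg_adjoin_of_finite (t y).finite_toSet hint)
    exact this
  let e := IsOpenImmersion.isoOfRangeEq (modelMap D ⁻¹ᵁ (U y).1).ι (modelι D (U y))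
    (by simpa using congr($(modelMap_preimage D (U y)).1))
  rw [← MorphismProperty.cancel_left_of_respectsIso @IsFinite e.inv,
    ← MorphismProperty.cancel_right_of_respectsIso @IsFinite _ (U y).2.isoSpec.hom]
  convert! (IsFinite.SpecMap_iff _).mpr hfin
  rw [← cancel_mono (U y).2.fromSpec]
  simp [IsAffineOpen.isoSpec_hom, e]
  exact modelι_map D (U y)

/-- The map to the model. -/
noncomputable def toModel : T ⟶ model D :=
  Scheme.OpenCover.glueMorphismsOfLocallyDirected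
    ((Scheme.AffineZariskiSite.directedCover Y).pullback₁ f)
    (fun U ↦ (pullbackRestrictIsoRestrict f _).hom ≫
      (f ⁻¹ᵁ U.1).toSpecΓ ≫ Spec.map (CommRingCat.ofHom (D.sub U.1).subtype) ≫ (glueData D).cover.f U)
    fun {U V : Y.AffineZariskiSite} i ↦ by
  have : (pullbackRestrictIsoRestrict f U.1).inv ≫
      Scheme.Cover.trans ((Scheme.AffineZariskiSite.directedCover Y).pullback₁ f) i ≫
      (pullbackRestrictIsoRestrict f V.1).hom = T.homOfLE
        (f.preimage_mono (Scheme.AffineZariskiSite.toOpens_mono i.1.1)) := by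
    rw [← cancel_mono (Scheme.Opens.ι _)]
    simp +instances [Scheme.Cover.trans, Scheme.Cover.locallyDirectedPullbackCover]
  rw [← Iso.inv_comp_eq, reassoc_of% this, ← Scheme.Opens.toSpecΓ_SpecMap_presheaf_map_assoc,
    ← Spec.map_comp_assoc]
  dsimp
  rw [← colimit.w (glueData D).functor i]
  dsimp [glueData, Scheme.AffineZariskiSite.relativeGluingData]
  rw [← Spec.map_comp_assoc]
  rfl

theorem ι_toModel (U : Y.affineOpens) :
    (f ⁻¹ᵁ U.1).ι ≫ toModel D = (f ⁻¹ᵁ U.1).toSpecΓ ≫ Spec.map (CommRingCat.ofHom (D.sub U.1).subtype) ≫ modelι D U := by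
  rw [← cancel_epi (pullbackRestrictIsoRestrict f U.1).hom, ← Category.assoc]
  trans ((Scheme.AffineZariskiSite.directedCover Y).pullback₁ f).f ⟨U.1, U.2⟩ ≫ toModel D
  · congr 1; simp
  delta toModel
  generalize_proofs
  apply Scheme.OpenCover.map_glueMorphismsOfLocallyDirected
  assumption

theorem toModel_map : toModel D ≫ modelMap D = f := by
  refine Scheme.Cover.hom_ext (T.openCoverOfIsOpenCover _
    (.comap (iSup_affineOpens_eq_top Y) f.base.1)) _ _ fun U ↦ ?_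
  change (f ⁻¹ᵁ U.1).ι ≫ toModel D ≫ modelMap D = (f ⁻¹ᵁ U.1).ι ≫ f
  rw [reassoc_of% ι_toModel D U, modelι_map, ← Spec.map_comp_assoc]
  change (f ⁻¹ᵁ U.1).toSpecΓ ≫ Spec.map (f.app _) ≫ U.2.fromSpec = (f ⁻¹ᵁ U.1).ι ≫ _
  simp

theorem exists_toModel_app {U : Y.affineOpens} {c : Γ(T, f ⁻¹ᵁ U.1)} (hc : c ∈ D.sub U.1)
    (e : f ⁻¹ᵁ U.1 ≤ toModel D ⁻¹ᵁ (modelMap D ⁻¹ᵁ U.1)) :
    ∃ γ : Γ(model D, modelMap D ⁻¹ᵁ U.1), (toModel D).appLE _ _ e γ = c := by
  let K : (f ⁻¹ᵁ U.1).toScheme ⟶ Spec (.of (D.sub U.1)) :=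
    (f ⁻¹ᵁ U.1).toSpecΓ ≫ Spec.map (CommRingCat.ofHom (D.sub U.1).subtype)
  have hK : (f ⁻¹ᵁ U.1).ι ≫ toModel D = K ≫ modelι D U := by rw [ι_toModel, Category.assoc]
  have e₁ : (⊤ : (Spec (.of (D.sub U.1))).Opens) ≤ modelι D U ⁻¹ᵁ (modelMap D ⁻¹ᵁ U.1) := by
    rw [modelMap_preimage]; exact fun x _ => ⟨x, rfl⟩
  have hbij : Function.Bijective ((modelι D U).appLE (modelMap D ⁻¹ᵁ U.1) ⊤ e₁).hom := by
    have h0 : modelι D U ⁻¹ᵁ (modelMap D ⁻¹ᵁ U.1) = ⊤ := top_le_iff.mp e₁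
    have : ∀ (V : (Spec (.of (D.sub U.1))).Opens) (_ : modelι D U ⁻¹ᵁ (modelMap D ⁻¹ᵁ U.1) = V) (e : V ≤ _),
        Function.Bijective ((modelι D U).appLE (modelMap D ⁻¹ᵁ U.1) V e).hom := by
      rintro _ rfl e
      rw [Scheme.Hom.appLE_eq_app]
      have := (modelι D U).isIso_app (modelMap D ⁻¹ᵁ U.1) (by rw [modelMap_preimage])
      exact ConcreteCategory.bijective_of_isIso _
    exact this _ h0 e₁
  obtain ⟨γ, hγ⟩ := hbij.2 ((Scheme.ΓSpecIso _).inv ⟨c, hc⟩)
  refine ⟨γ, ?_⟩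
  have e₂ : (⊤ : (f ⁻¹ᵁ U.1).toScheme.Opens) ≤ (f ⁻¹ᵁ U.1).ι ⁻¹ᵁ (f ⁻¹ᵁ U.1) := fun x _ => x.2
  have h1 : ((f ⁻¹ᵁ U.1).ι ≫ toModel D).appLE (modelMap D ⁻¹ᵁ U.1) ⊤ (e₂.trans (Scheme.Hom.preimage_mono _ e)) γ =
      (f ⁻¹ᵁ U.1).ι.appLE (f ⁻¹ᵁ U.1) ⊤ e₂ ((toModel D).appLE _ _ e γ) := by
    rw [← Scheme.Hom.appLE_comp_appLE _ _ _ _ _ e e₂]
    rfl
  have h2 : ((f ⁻¹ᵁ U.1).ι ≫ toModel D).appLE (modelMap D ⁻¹ᵁ U.1) ⊤ (e₂.trans (Scheme.Hom.preimage_mono _ e)) γ =
      (f ⁻¹ᵁ U.1).topIso.inv c := by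
    have h3 : (K ≫ modelι D U).appLE (modelMap D ⁻¹ᵁ U.1) ⊤ (le_top.trans (Scheme.Hom.preimage_mono K e₁)) γ =
        (f ⁻¹ᵁ U.1).topIso.inv c := by
      rw [← Scheme.Hom.appLE_comp_appLE _ _ _ ⊤ ⊤ e₁ le_top, CommRingCat.comp_apply, hγ]
      change K.appLE ⊤ (K ⁻¹ᵁ ⊤) le_rfl ((Scheme.ΓSpecIso _).inv ⟨c, hc⟩) = _
      rw [Scheme.Hom.appLE_eq_app]
      change K.appTop ((Scheme.ΓSpecIso _).inv ⟨c, hc⟩) = _
      rw [← CommRingCat.comp_apply]
      simp [K, Scheme.Opens.toSpecΓ_appTop]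
    simp only [hK]
    exact h3
  have hb : Function.Bijective ((f ⁻¹ᵁ U.1).ι.appLE (f ⁻¹ᵁ U.1) ⊤ e₂).hom := by
    have h0 : (f ⁻¹ᵁ U.1).ι ⁻¹ᵁ (f ⁻¹ᵁ U.1) = ⊤ := top_le_iff.mp e₂
    have : ∀ (V : (f ⁻¹ᵁ U.1).toScheme.Opens) (_ : (f ⁻¹ᵁ U.1).ι ⁻¹ᵁ (f ⁻¹ᵁ U.1) = V) (e : V ≤ _),
        Function.Bijective ((f ⁻¹ᵁ U.1).ι.appLE (f ⁻¹ᵁ U.1) V e).hom := by
      rintro _ rfl e
      rw [Scheme.Hom.appLE_eq_app]
      have := (f ⁻¹ᵁ U.1).ι.isIso_app (f ⁻¹ᵁ U.1) (by rw [Scheme.Opens.opensRange_ι])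
      exact ConcreteCategory.bijective_of_isIso _
    exact this _ h0 e₂
  refine hb.1 (h1.symm.trans (h2.trans ?_))
  simp [Scheme.Opens.ι_appLE, Scheme.Opens.topIso]
  rfl

end Groth.Agent.FiniteFactor
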