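import Groth.Agent.FiniteFactor.Glue

/-! An open of an integral scheme which is of finite type is immersed into a finite scheme. -/

set_option autoImplicit false
set_option backward.isDefEq.respectTransparency false
set_option backward.defeqAttrib.useBackward true
set_option backward.isDefEq.respectTransparency.types false

universe u
open CategoryTheory CategoryTheory.Limits AlgebraicGeometry TopologicalSpace Opposite

namespace Groth.Agent.FiniteFactor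

variable {T Y : Scheme.{u}} (f : T ⟶ Y) [IsIntegralHom f] [IsNoetherian Y]

theorem exists_finite_factor {S₀ : Y.Opens} (hS₀ : IsAffineOpen S₀) (s : Finset Γ(T, f ⁻¹ᵁ S₀)) :
    ∃ (Z : Scheme.{u}) (g : Z ⟶ Y) (φ : T ⟶ Z), IsFinite g ∧ φ ≫ g = f ∧
      ∀ c ∈ s, ∀ e : f ⁻¹ᵁ S₀ ≤ φ ⁻¹ᵁ (g ⁻¹ᵁ S₀),
        ∃ γ : Γ(Z, g ⁻¹ᵁ S₀), φ.appLE (g ⁻¹ᵁ S₀) (f ⁻¹ᵁ S₀) e γ = c := by
  classical
  obtain ⟨D₀, hD₀, -⟩ := (Data.init f).exists_extend hS₀ s (fun x _ => trivial)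
  have hcov : ∀ y : Y, ∃ V : Y.Opens, IsAffineOpen V ∧ y ∈ V := fun y => by
    obtain ⟨V, hV, hyV, -⟩ := exists_isAffineOpen_mem_and_subset (U := (⊤ : Y.Opens)) (x := y) trivial
    exact ⟨V, hV, hyV⟩
  choose V hV hyV using hcov
  have key : ∀ F : Finset Y, ∃ (W : Y.Opens) (D : Data f W), S₀ ≤ W ∧ F.sup V ≤ W ∧
      (↑s : Set Γ(T, f ⁻¹ᵁ S₀)) ⊆ D.sub S₀ := by
    intro F
    induction F using Finset.induction with
    | empty => exact ⟨_, D₀, le_sup_right, by simp, hD₀⟩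
    | insert a F _ ih =>
      obtain ⟨W, D, h1, h2, h3⟩ := ih
      obtain ⟨D', -, hD'⟩ := D.exists_extend (hV a) ∅ (by simp)
      exact ⟨_, D', h1.trans le_sup_left, by rw [Finset.sup_insert]; exact sup_le le_sup_right (h2.trans le_sup_left),
        fun x hx => hD' _ h1 (h3 hx)⟩
  obtain ⟨F, hF⟩ := isCompact_univ.elim_finite_subcover (fun y => (V y : Set Y)) (fun y => (V y).isOpen)
    (fun y _ => Set.mem_iUnion.mpr ⟨y, hyV y⟩)
  obtain ⟨W, D, -, hW, hs⟩ := key F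
  obtain rfl : W = ⊤ := top_le_iff.mp fun y _ => by
    obtain ⟨z, hz, hyz⟩ := Set.mem_iUnion₂.mp (hF (Set.mem_univ y))
    exact hW (Finset.le_sup (f := V) hz hyz)
  exact ⟨model D, modelMap D, toModel D, isFinite_modelMap D, toModel_map D,
    fun c hc e => exists_toModel_app D (U := ⟨S₀, hS₀⟩) (hs hc) e⟩

theorem exists_isImmersion_finite (U₀ : T.Opens) [CompactSpace U₀.toScheme] [LocallyOfFiniteType (U₀.ι ≫ f)] :
    ∃ (Z : Scheme.{u}) (g : Z ⟶ Y) (j : U₀.toScheme ⟶ Z), IsFinite g ∧ IsImmersion j ∧ j ≫ g = U₀.ι ≫ f := by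
  classical
  have loc : ∀ x : U₀.toScheme, ∃ (S : Y.Opens) (_ : IsAffineOpen S) (a : Γ(T, f ⁻¹ᵁ S)) (s : Finset Γ(T, f ⁻¹ᵁ S))
      (hle : T.basicOpen a ≤ f ⁻¹ᵁ S), U₀.ι x ∈ T.basicOpen a ∧ T.basicOpen a ≤ U₀ ∧
      ∀ R : Subring Γ(T, T.basicOpen a), (∀ q, f.appLE S (T.basicOpen a) hle q ∈ R) →
        (∀ c ∈ s, T.presheaf.map (homOfLE hle).op c ∈ R) →
        (∀ v, v * T.presheaf.map (homOfLE hle).op a = 1 → v ∈ R) → R = ⊤ := by
    intro x
    obtain ⟨S, hS, hxS, -⟩ := exists_isAffineOpen_mem_and_subset (U := (⊤ : Y.Opens)) (x := f (U₀.ι x)) trivial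
    have hA : IsAffineOpen (f ⁻¹ᵁ S) := hS.preimage f
    obtain ⟨a, ha, hxa⟩ := hA.exists_basicOpen_le (V := U₀) ⟨U₀.ι x, x.2⟩ hxS
    have hle : T.basicOpen a ≤ f ⁻¹ᵁ S := T.basicOpen_le a
    have hft : (f.appLE S (T.basicOpen a) hle).hom.FiniteType := by
      have e₁ : U₀.ι ⁻¹ᵁ T.basicOpen a ≤ (U₀.ι ≫ f) ⁻¹ᵁ S := U₀.ι.preimage_mono hle
      have h1 := (U₀.ι ≫ f).finiteType_appLE hS
        ((hA.basicOpen a).preimage_of_isOpenImmersion U₀.ι (by rwa [Scheme.Opens.opensRange_ι])) e₁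
      rw [← Scheme.Hom.appLE_comp_appLE U₀.ι f S (T.basicOpen a) _ hle le_rfl, CommRingCat.hom_comp] at h1
      haveI : IsIso (U₀.ι.appLE (T.basicOpen a) (U₀.ι ⁻¹ᵁ T.basicOpen a) le_rfl) := by
        rw [Scheme.Hom.appLE_eq_app]
        exact U₀.ι.isIso_app _ (by rwa [Scheme.Opens.opensRange_ι])
      let σ := (asIso (U₀.ι.appLE (T.basicOpen a) (U₀.ι ⁻¹ᵁ T.basicOpen a) le_rfl)).commRingCatIsoToRingEquiv
      have h2 := (RingHom.FiniteType.of_surjective σ.symm.toRingHom σ.symm.surjective).comp h1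
      rwa [← RingHom.comp_assoc, show σ.symm.toRingHom.comp (U₀.ι.appLE (T.basicOpen a) (U₀.ι ⁻¹ᵁ T.basicOpen a) le_rfl).hom
        = RingHom.id _ from RingHom.ext σ.symm_apply_apply, RingHom.id_comp] at h2
    letI := (f.appLE S (T.basicOpen a) hle).hom.toAlgebra
    obtain ⟨G, hG⟩ : (⊤ : Subalgebra Γ(Y, S) Γ(T, T.basicOpen a)).FG := hft.1
    haveI := hA.isLocalization_basicOpen a
    choose n b hb using fun g : Γ(T, T.basicOpen a) => IsLocalization.Away.surj a g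
    refine ⟨S, hS, a, insert a (G.image b), hle, hxa, ha, fun R hR hs hinv => top_le_iff.mp fun z _ => ?_⟩
    have hz : z ∈ Algebra.adjoin Γ(Y, S) (G : Set Γ(T, T.basicOpen a)) := by rw [hG]; trivial
    obtain ⟨v, hv⟩ := (IsLocalization.Away.algebraMap_isUnit (S := Γ(T, T.basicOpen a)) a).exists_left_inv
    induction hz using Algebra.adjoin_induction with
    | mem g hg =>
      have hv' : g = T.presheaf.map (homOfLE hle).op (b g) * v ^ n g := by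
        change g = algebraMap Γ(T, f ⁻¹ᵁ S) Γ(T, T.basicOpen a) (b g) * v ^ n g
        rw [← hb g, mul_assoc, ← mul_pow, mul_comm _ v, hv, one_pow, mul_one]
      rw [hv']
      exact mul_mem (hs _ (Finset.mem_insert_of_mem (Finset.mem_image.mpr ⟨g, hg, rfl⟩))) (pow_mem (hinv v hv) _)
    | algebraMap q => exact hR q
    | add x y _ _ hx hy => exact add_mem (hx trivial) (hy trivial)
    | mul x y _ _ hx hy => exact mul_mem (hx trivial) (hy trivial)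
  choose S hS a s hle hxa haU hgen using loc
  obtain ⟨F, hF⟩ := isCompact_univ.elim_finite_subcover (fun x => (U₀.ι ⁻¹ᵁ T.basicOpen (a x) : Set U₀.toScheme))
    (fun x => (U₀.ι ⁻¹ᵁ T.basicOpen (a x)).isOpen) (fun x _ => Set.mem_iUnion.mpr ⟨x, hxa x⟩)
  have key : ∀ F : Finset U₀.toScheme, ∃ (Z : Scheme.{u}) (g : Z ⟶ Y) (φ : T ⟶ Z), IsFinite g ∧ φ ≫ g = f ∧
      ∀ x ∈ F, ∀ c ∈ insert (a x) (s x), ∀ e : f ⁻¹ᵁ S x ≤ φ ⁻¹ᵁ (g ⁻¹ᵁ S x),
        ∃ γ : Γ(Z, g ⁻¹ᵁ S x), φ.appLE (g ⁻¹ᵁ S x) (f ⁻¹ᵁ S x) e γ = c := by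
    intro F
    induction F using Finset.induction with
    | empty => exact ⟨Y, 𝟙 Y, f, inferInstance, Category.comp_id f, by simp⟩
    | insert x F _ ih =>
      obtain ⟨Z₂, g₂, φ₂, hg₂, hφ₂, h₂⟩ := ih
      obtain ⟨Z₁, g₁, φ₁, hg₁, hφ₁, h₁⟩ := exists_finite_factor f (hS x) (insert (a x) (s x))
      let φ := pullback.lift φ₁ φ₂ (hφ₁.trans hφ₂.symm)
      refine ⟨pullback g₁ g₂, pullback.fst g₁ g₂ ≫ g₁, φ, inferInstance, by simp [φ, hφ₁], fun y hy c hc e => ?_⟩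
      rcases Finset.mem_insert.mp hy with rfl | hy
      · have e₁ : f ⁻¹ᵁ S y ≤ φ₁ ⁻¹ᵁ (g₁ ⁻¹ᵁ S y) := by rw [← Scheme.Hom.comp_preimage, hφ₁]
        obtain ⟨γ, hγ⟩ := h₁ c hc e₁
        refine ⟨(pullback.fst g₁ g₂).app (g₁ ⁻¹ᵁ S y) γ, ?_⟩
        rw [Scheme.Hom.app_eq_appLE]
        erw [← CommRingCat.comp_apply]
        refine Eq.trans ?_ hγ
        erw [Scheme.Hom.appLE_comp_appLE]
        simp [φ]
      · have e₁ : f ⁻¹ᵁ S y ≤ φ₂ ⁻¹ᵁ (g₂ ⁻¹ᵁ S y) := by rw [← Scheme.Hom.comp_preimage, hφ₂]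
        obtain ⟨γ, hγ⟩ := h₂ y hy c hc e₁
        have e₂ : (pullback.fst g₁ g₂ ≫ g₁) ⁻¹ᵁ S y ≤ pullback.snd g₁ g₂ ⁻¹ᵁ (g₂ ⁻¹ᵁ S y) := by
          rw [← Scheme.Hom.comp_preimage, pullback.condition]
        refine ⟨(pullback.snd g₁ g₂).appLE (g₂ ⁻¹ᵁ S y) _ e₂ γ, ?_⟩
        erw [← CommRingCat.comp_apply]
        refine Eq.trans ?_ hγ
        erw [Scheme.Hom.appLE_comp_appLE]
        simp [φ]
  obtain ⟨Z, g, φ, hg, hφ, hγ⟩ := key F
  have e : ∀ x, f ⁻¹ᵁ S x ≤ φ ⁻¹ᵁ (g ⁻¹ᵁ S x) := fun x => by rw [← Scheme.Hom.comp_preimage, hφ]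
  have hpiece : ∀ x ∈ F, ∃ O : Z.Opens, φ ⁻¹ᵁ O = T.basicOpen (a x) ∧ IsClosedImmersion (φ ∣_ O) := by
    intro x hx
    obtain ⟨α, hα⟩ := hγ x hx (a x) (Finset.mem_insert_self _ _) (e x)
    let O := Z.basicOpen α
    have hO : φ ⁻¹ᵁ O = T.basicOpen (a x) := by
      rw [← hα, Scheme.Hom.appLE, CommRingCat.comp_apply, Scheme.basicOpen_res, Scheme.preimage_basicOpen]
      refine (inf_eq_right.mpr ((T.basicOpen_le _).trans ?_)).symm
      rw [← Scheme.Hom.comp_preimage, hφ]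
    have hOaff : IsAffineOpen O := (hS x).preimage g |>.basicOpen α
    haveI : IsAffine O.toScheme := hOaff
    have hTa : IsAffineOpen (φ ⁻¹ᵁ O) := hO ▸ ((hS x).preimage f).basicOpen (a x)
    haveI : IsAffine (φ ⁻¹ᵁ O).toScheme := hTa
    refine ⟨O, hO, IsClosedImmersion.of_surjective_of_isAffine _ ?_⟩
    have hO' : T.basicOpen (a x) ≤ φ ⁻¹ᵁ O := hO.ge
    have htop : (φ.appLE O (T.basicOpen (a x)) hO').hom.range = ⊤ := by
      refine hgen x _ ?_ ?_ ?_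
      · intro q
        refine ⟨g.appLE (S x) O (Z.basicOpen_le α) q, ?_⟩
        rw [← CommRingCat.comp_apply, Scheme.Hom.appLE_comp_appLE]
        simp [hφ]
      · intro c hc
        obtain ⟨γ, hγc⟩ := hγ x hx c (Finset.mem_insert_of_mem hc) (e x)
        refine ⟨Z.presheaf.map (homOfLE (Z.basicOpen_le α)).op γ, ?_⟩
        rw [← hγc, ← CommRingCat.comp_apply, Scheme.Hom.map_appLE, ← CommRingCat.comp_apply, Scheme.Hom.appLE_map]
      · intro v hv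
        obtain ⟨β, hβ⟩ := (RingedSpace.isUnit_res_basicOpen Z.toRingedSpace α).exists_left_inv
        have h1 := congrArg (φ.appLE O (T.basicOpen (a x)) hO').hom hβ
        rw [map_one, map_mul] at h1
        refine ⟨β, ?_⟩
        have h2 : φ.appLE O (T.basicOpen (a x)) hO' (Z.presheaf.map (homOfLE (Z.basicOpen_le α)).op α) =
            T.presheaf.map (homOfLE (hle x)).op (a x) := by
          have h3 : φ.appLE (g ⁻¹ᵁ S x) (f ⁻¹ᵁ S x) (e x) ≫ T.presheaf.map (homOfLE (hle x)).op =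
              Z.presheaf.map (homOfLE (Z.basicOpen_le α)).op ≫ φ.appLE O (T.basicOpen (a x)) hO' := by
            rw [Scheme.Hom.map_appLE, Scheme.Hom.appLE_map]
          rw [← CommRingCat.comp_apply, ← h3, CommRingCat.comp_apply, hα]
        erw [h2] at h1
        calc φ.appLE O (T.basicOpen (a x)) hO' β
            = φ.appLE O (T.basicOpen (a x)) hO' β * (v * T.presheaf.map (homOfLE (hle x)).op (a x)) := by rw [hv, mul_one]
          _ = v * (φ.appLE O (T.basicOpen (a x)) hO' β * T.presheaf.map (homOfLE (hle x)).op (a x)) := by ring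
          _ = v := by erw [h1]; rw [mul_one]
    have h4 : Function.Surjective (φ.app O).hom := by
      have : ∀ (V : T.Opens) (_ : φ ⁻¹ᵁ O = V) (h : V ≤ φ ⁻¹ᵁ O), (φ.appLE O V h).hom.range = ⊤ →
          Function.Surjective (φ.app O).hom := by
        rintro _ rfl h h'
        rw [Scheme.Hom.appLE_eq_app] at h'
        exact RingHom.range_eq_top.mp h'
      exact this _ hO hO' htop
    have h5 : Function.Surjective (φ.app (O.ι ''ᵁ ⊤)).hom := by
      rw [Scheme.Opens.ι_image_top]; exact h4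
    rw [morphismRestrict_appTop, ]
    exact (ConcreteCategory.bijective_of_isIso (T.presheaf.map (eqToHom (image_morphismRestrict_preimage φ O ⊤)).op)).2.comp h5
  choose O hO hcl using hpiece
  let Ω : Z.Opens := ⨆ x : {x // x ∈ F}, O x.1 x.2
  have hΩ : φ ⁻¹ᵁ Ω = U₀ := by
    rw [show φ ⁻¹ᵁ Ω = ⨆ x : {x // x ∈ F}, φ ⁻¹ᵁ O x.1 x.2 from φ.preimage_iSup _]
    refine le_antisymm (iSup_le fun x => (hO x.1 x.2).trans_le (haU x.1)) fun t ht => ?_
    obtain ⟨x, hx, hxt⟩ := Set.mem_iUnion₂.mp (hF (Set.mem_univ (⟨t, ht⟩ : U₀.toScheme)))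
    exact Opens.mem_iSup.mpr ⟨⟨x, hx⟩, (hO x hx).ge hxt⟩
  haveI : IsClosedImmersion (φ ∣_ Ω) := by
    refine (IsZariskiLocalAtTarget.iff_of_iSup_eq_top (P := @IsClosedImmersion)
      (fun x : {x // x ∈ F} => Ω.ι ⁻¹ᵁ O x.1 x.2) ?_).mpr fun x => ?_
    · rw [← Scheme.Hom.preimage_iSup]; exact Scheme.Opens.ι_preimage_self Ω
    · rw [(MorphismProperty.arrow_mk_iso_iff @IsClosedImmersion (morphismRestrictRestrict φ Ω _))]
      have : ∀ O' : Z.Opens, O' = O x.1 x.2 → IsClosedImmersion (φ ∣_ O') := by rintro _ rfl; exact hcl x.1 x.2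
      refine this _ ?_
      rw [Scheme.Hom.image_preimage_eq_opensRange_inf, Scheme.Opens.opensRange_ι]
      exact inf_eq_right.mpr (le_iSup (fun x : {x // x ∈ F} => O x.1 x.2) x)
  refine ⟨Z, g, (T.isoOfEq hΩ).inv ≫ (φ ∣_ Ω) ≫ Ω.ι, hg, inferInstance, ?_⟩
  rw [Category.assoc, Category.assoc, morphismRestrict_ι_assoc, hφ, Scheme.isoOfEq_inv_ι_assoc]

end Groth.Agent.FiniteFactor
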